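import Cfsg.Agent.Lib.Helper44.FW.Defs

/-!
# Package [CNT] of project FW (S3211), helper70

Strictly more square roots of `j` than of `t₀ = x₀ (n x₀ n⁻¹)` in `C(j) ∩ C(t₀)`.
-/

set_option autoImplicit false

namespace Cfsg.Agent.Lib.Helper70.FW

open Cfsg Cfsg.Agent.Lib.Helper44.FW

universe u

theorem sq_eq_one_of_mem_zpowers {G : Type u} [Group G] {j x : G} (hj : j ^ 2 = 1)
    (hx : x ∈ Subgroup.zpowers j) : x ^ 2 = 1 := by
  obtain ⟨k, rfl⟩ := hx
  rw [← zpow_natCast, ← zpow_mul, mul_comm, zpow_mul, zpow_natCast, hj, one_zpow]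

/-- package [CNT] -/
theorem pkgCnt : PkgCnt.{u} := by
  intro G _ _ L₁ L₂ j n cfg x₀ hx₀ hx₀2 hCY hPhi
  classical
  haveI : Fintype G := Fintype.ofFinite G
  obtain ⟨a, b, hab⟩ := hCY
  generalize hy₀ : n * x₀ * n⁻¹ = y₀ at hab hPhi ⊢
  generalize ht₀ : x₀ * y₀ = t₀ at hab hPhi ⊢
  -- basic facts
  have hj2 : j ^ 2 = 1 := by
    rw [← cfg.ord]
    exact pow_orderOf_eq_one j
  have hjj : j * j = 1 := by rw [← sq]; exact hj2
  have hj1 : j ≠ 1 := by
    intro h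
    have h0 := cfg.ord
    rw [h, orderOf_one] at h0
    omega
  have hjinv : j⁻¹ = j := inv_eq_of_mul_eq_one_left hjj
  have hcent : ∀ z ∈ L₁ ⊔ L₂, Commute z j := by
    intro z hz
    have h0 := cfg.le hz
    rw [Subgroup.mem_centralizer_iff] at h0
    exact (h0 j rfl).symm
  have hx₀j : Commute x₀ j := hcent x₀ (Subgroup.mem_sup_left hx₀)
  have hnj : Commute n j := by
    have h0 := cfg.hn
    rw [Subgroup.mem_centralizer_iff] at h0
    exact (h0 j rfl).symm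
  have hy₀L : y₀ ∈ L₂ := by
    rw [← cfg.swap, Subgroup.mem_map]
    exact ⟨x₀, hx₀, hy₀⟩
  have hy₀j : Commute y₀ j := hcent y₀ (Subgroup.mem_sup_right hy₀L)
  have hy₀2 : y₀ ^ 2 = j := by
    rw [← hy₀, conj_pow, hx₀2, hnj.eq, mul_inv_cancel_right]
  have hxy : Commute x₀ y₀ := cfg.comm x₀ hx₀ y₀ hy₀L
  have hmeet : ∀ z, z ∈ L₁ → z ∈ L₂ → z ^ 2 = j → False := by
    intro z h1 h2 h3
    have h4 : z ∈ Subgroup.zpowers j := by
      rw [← cfg.meet]
      exact ⟨h1, h2⟩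
    exact hj1 (by rw [← h3, sq_eq_one_of_mem_zpowers hj2 h4])
  have hYN : L₁ ⊔ L₂ ≤ Subgroup.normalizer (L₁ : Set G) := by
    refine sup_le Subgroup.le_normalizer ?_
    intro v hv
    rw [Subgroup.mem_normalizer_iff]
    intro h
    constructor
    · intro hh
      have e : v * h * v⁻¹ = h := by
        rw [← (cfg.comm h hh v hv), mul_inv_cancel_right]
      rw [e]
      exact hh
    · intro hh
      have e : h = v⁻¹ * (v * h * v⁻¹) * v := by group
      have e2 : v⁻¹ * (v * h * v⁻¹) * v = v * h * v⁻¹ := by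
        rw [← (cfg.comm (v * h * v⁻¹) hh v⁻¹ (inv_mem hv)), inv_mul_cancel_right]
      rw [e, e2]
      exact hh
  have hnY : n ∉ L₁ ⊔ L₂ := by
    intro hn
    have h1 := hYN hn
    rw [Subgroup.mem_normalizer_iff] at h1
    have h2 : y₀ ∈ L₁ := by
      rw [← hy₀]
      exact (h1 x₀).mp hx₀
    exact hmeet y₀ h2 hy₀L hy₀2
  have hnn : n * n = j := by rw [← sq]; exact cfg.hn2
  have hnx : n * x₀ = y₀ * n := by
    rw [← hy₀]
    group
  have hny : n * y₀ = x₀ * n := by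
    calc n * y₀ = n * (n * x₀ * n⁻¹) := by rw [hy₀]
      _ = (n * n) * x₀ * n⁻¹ := by group
      _ = j * x₀ * n⁻¹ := by rw [hnn]
      _ = x₀ * j * n⁻¹ := by rw [hx₀j.eq]
      _ = x₀ * (n * n) * n⁻¹ := by rw [hnn]
      _ = x₀ * n := by group
  have hnt : Commute n t₀ := by
    show n * t₀ = t₀ * n
    rw [← ht₀]
    calc n * (x₀ * y₀) = (n * x₀) * y₀ := by rw [mul_assoc]
      _ = y₀ * (n * y₀) := by rw [hnx, mul_assoc]
      _ = y₀ * (x₀ * n) := by rw [hny]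
      _ = x₀ * y₀ * n := by rw [← mul_assoc, ← hxy.eq]
  have hxt : Commute x₀ t₀ := by
    rw [← ht₀]
    exact Commute.mul_right (Commute.refl x₀) hxy
  have hyt : Commute y₀ t₀ := by
    rw [← ht₀]
    exact Commute.mul_right hxy.symm (Commute.refl y₀)
  -- distinctness of the four square roots of `j` inside `Y`
  have hsqinv : ∀ z : G, z ^ 2 = j → z ≠ z⁻¹ := by
    intro z hz h
    have h0 : z ^ 2 = 1 := by
      rw [sq]
      nth_rewrite 2 [h]
      exact mul_inv_cancel z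
    exact hj1 (by rw [← hz, h0])
  have h1 : x₀ ≠ x₀⁻¹ := hsqinv x₀ hx₀2
  have h6 : y₀ ≠ y₀⁻¹ := hsqinv y₀ hy₀2
  have h2 : x₀ ≠ y₀ := fun h => hmeet x₀ hx₀ (h ▸ hy₀L) hx₀2
  have h3 : x₀ ≠ y₀⁻¹ := fun h => hmeet x₀ hx₀ (h ▸ inv_mem hy₀L) hx₀2
  have h4 : x₀⁻¹ ≠ y₀ := fun h => hmeet y₀ (h ▸ inv_mem hx₀) hy₀L hy₀2
  have h5 : x₀⁻¹ ≠ y₀⁻¹ := fun h => h2 (inv_injective h)
  -- the two sets as finsets
  have cardA : Nat.card {r : G // r * j = j * r ∧ r * t₀ = t₀ * r ∧ r ^ 2 = t₀} =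
      (Finset.univ.filter fun r : G => r * j = j * r ∧ r * t₀ = t₀ * r ∧ r ^ 2 = t₀).card := by
    rw [Nat.card_eq_fintype_card, Fintype.card_subtype]
  have cardB : Nat.card {r : G // r * j = j * r ∧ r * t₀ = t₀ * r ∧ r ^ 2 = j} =
      (Finset.univ.filter fun r : G => r * j = j * r ∧ r * t₀ = t₀ * r ∧ r ^ 2 = j).card := by
    rw [Nat.card_eq_fintype_card, Fintype.card_subtype]
  rw [cardA, cardB]
  generalize hA : (Finset.univ.filter fun r : G => r * j = j * r ∧ r * t₀ = t₀ * r ∧ r ^ 2 = t₀)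
    = A
  generalize hB : (Finset.univ.filter fun r : G => r * j = j * r ∧ r * t₀ = t₀ * r ∧ r ^ 2 = j)
    = B
  have hAmem : ∀ r, r ∈ A ↔ (r * j = j * r ∧ r * t₀ = t₀ * r ∧ r ^ 2 = t₀) := by
    intro r
    rw [← hA, Finset.mem_filter]
    exact ⟨fun h => h.2, fun h => ⟨Finset.mem_univ r, h⟩⟩
  have hBmem : ∀ r, r ∈ B ↔ (r * j = j * r ∧ r * t₀ = t₀ * r ∧ r ^ 2 = j) := by
    intro r
    rw [← hB, Finset.mem_filter]
    exact ⟨fun h => h.2, fun h => ⟨Finset.mem_univ r, h⟩⟩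
  have hsplitA := Finset.card_filter_add_card_filter_not (s := A) (fun r => r ∈ L₁ ⊔ L₂)
  have hsplitB := Finset.card_filter_add_card_filter_not (s := B) (fun r => r ∈ L₁ ⊔ L₂)
  -- the part of `A` inside `Y`
  have hAY : (A.filter (fun r => r ∈ L₁ ⊔ L₂)).card ≤ 4 := by
    refine le_trans (Finset.card_le_card (t := {a, a * j, b, b * j}) ?_) Finset.card_le_four
    intro r hr
    rw [Finset.mem_filter, hAmem] at hr
    have h0 := hab r hr.2 hr.1.2.2
    simp only [Finset.mem_insert, Finset.mem_singleton]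
    exact h0
  -- four elements of `B` inside `Y`
  have hC4 : ({x₀, x₀⁻¹, y₀, y₀⁻¹} : Finset G).card = 4 := by
    rw [Finset.card_insert_of_notMem, Finset.card_insert_of_notMem,
      Finset.card_insert_of_notMem, Finset.card_singleton]
    · simp only [Finset.mem_singleton]
      exact h6
    · simp only [Finset.mem_insert, Finset.mem_singleton, not_or]
      exact ⟨h4, h5⟩
    · simp only [Finset.mem_insert, Finset.mem_singleton, not_or]
      exact ⟨h1, h2, h3⟩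
  have hC4B : ({x₀, x₀⁻¹, y₀, y₀⁻¹} : Finset G) ⊆ B.filter (fun r => r ∈ L₁ ⊔ L₂) := by
    intro z hz
    simp only [Finset.mem_insert, Finset.mem_singleton] at hz
    rw [Finset.mem_filter, hBmem]
    rcases hz with rfl | rfl | rfl | rfl
    · exact ⟨⟨hx₀j.eq, hxt.eq, hx₀2⟩, Subgroup.mem_sup_left hx₀⟩
    · exact ⟨⟨hx₀j.inv_left.eq, hxt.inv_left.eq, by rw [inv_pow, hx₀2, hjinv]⟩,
        Subgroup.mem_sup_left (inv_mem hx₀)⟩
    · exact ⟨⟨hy₀j.eq, hyt.eq, hy₀2⟩, Subgroup.mem_sup_right hy₀L⟩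
    · exact ⟨⟨hy₀j.inv_left.eq, hyt.inv_left.eq, by rw [inv_pow, hy₀2, hjinv]⟩,
        Subgroup.mem_sup_right (inv_mem hy₀L)⟩
  -- the part outside `Y`
  have hANmem : ∀ r, r ∈ A.filter (fun r => ¬ r ∈ L₁ ⊔ L₂) →
      (r * x₀) ^ 2 = j ∧ r * x₀ ≠ n ∧ Commute r j ∧ Commute r t₀ ∧ r ∉ L₁ ⊔ L₂ := by
    intro r hr
    rw [Finset.mem_filter, hAmem] at hr
    have hrC : r ∈ Subgroup.centralizer ({j} : Set G) := by
      rw [Subgroup.mem_centralizer_iff]
      intro h hh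
      rw [Set.mem_singleton_iff] at hh
      rw [hh]
      exact hr.1.1.symm
    have h0 := hPhi r hrC hr.2 hr.1.2.1 hr.1.2.2
    exact ⟨h0.1, h0.2, hr.1.1, hr.1.2.1, hr.2⟩
  have hnot : n ∉ (A.filter (fun r => ¬ r ∈ L₁ ⊔ L₂)).image (fun r => r * x₀) := by
    intro h
    rw [Finset.mem_image] at h
    obtain ⟨r, hr, hrn⟩ := h
    exact (hANmem r hr).2.1 hrn
  have hcardD : (insert n ((A.filter (fun r => ¬ r ∈ L₁ ⊔ L₂)).image (fun r => r * x₀))).card =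
      (A.filter (fun r => ¬ r ∈ L₁ ⊔ L₂)).card + 1 := by
    rw [Finset.card_insert_of_notMem hnot,
      Finset.card_image_of_injective _ (mul_left_injective x₀)]
  have hDB : insert n ((A.filter (fun r => ¬ r ∈ L₁ ⊔ L₂)).image (fun r => r * x₀)) ⊆
      B.filter (fun r => ¬ r ∈ L₁ ⊔ L₂) := by
    intro z hz
    rw [Finset.mem_insert, Finset.mem_image] at hz
    rw [Finset.mem_filter, hBmem]
    rcases hz with rfl | ⟨r, hr, rfl⟩
    · exact ⟨⟨hnj.eq, hnt.eq, cfg.hn2⟩, hnY⟩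
    · obtain ⟨e1, _, e3, e4, e5⟩ := hANmem r hr
      refine ⟨⟨(Commute.mul_left e3 hx₀j).eq, (Commute.mul_left e4 hxt).eq, e1⟩, ?_⟩
      intro hmem
      exact e5 ((Subgroup.mul_mem_cancel_right (L₁ ⊔ L₂) (Subgroup.mem_sup_left hx₀)).mp hmem)
  have hB1 : 4 ≤ (B.filter (fun r => r ∈ L₁ ⊔ L₂)).card := by
    rw [← hC4]
    exact Finset.card_le_card hC4B
  have hB2 : (A.filter (fun r => ¬ r ∈ L₁ ⊔ L₂)).card + 1 ≤
      (B.filter (fun r => ¬ r ∈ L₁ ⊔ L₂)).card := by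
    rw [← hcardD]
    exact Finset.card_le_card hDB
  omega

end Cfsg.Agent.Lib.Helper70.FW
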